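import Mathlib

/-!
Recovering submodules from their tensor powers: dual bases, nilpotent coordinates and
killing of trace elements.
-/

set_option autoImplicit false

universe u v w

open scoped TensorProduct
open DirectSum

namespace Groth.Agent.TensPow2

variable {R : Type u} [CommRing R] {M : Type v} [AddCommGroup M] [Module R M]

/-- A dual generating system of a finite projective module. -/
lemma exists_dual_gens [Module.Finite R M] [Module.Projective R M] :
    ∃ (n : ℕ) (g : Fin n → M) (φ : Fin n → (M →ₗ[R] R)), ∀ x, x = ∑ i, φ i x • g i := by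
  obtain ⟨n, f, hf⟩ := Module.Finite.exists_fin' R M
  obtain ⟨s, hs⟩ := Module.projective_lifting_property f LinearMap.id hf
  refine ⟨n, fun i => f (Pi.single i 1), fun i => (LinearMap.proj i).comp s, fun x => ?_⟩
  calc x = f (s x) := (LinearMap.congr_fun hs x).symm
    _ = f (∑ i, s x i • Pi.single i 1) := by rw [← pi_eq_sum_univ' (s x)]
    _ = _ := by simp [map_sum, map_smul]

lemma eq_zero_of_forall_dual [Module.Finite R M] [Module.Projective R M] {x : M}
    (h : ∀ φ : M →ₗ[R] R, φ x = 0) : x = 0 := by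
  obtain ⟨n, g, φ, hg⟩ := exists_dual_gens (R := R) (M := M)
  rw [hg x]
  simp [h]

lemma mem_nilradical_smul_top [Module.Finite R M] [Module.Projective R M] {x : M}
    (h : ∀ φ : M →ₗ[R] R, IsNilpotent (φ x)) : x ∈ (nilradical R) • (⊤ : Submodule R M) := by
  obtain ⟨n, g, φ, hg⟩ := exists_dual_gens (R := R) (M := M)
  rw [hg x]
  exact Submodule.sum_mem _ fun i _ => Submodule.smul_mem_smul (mem_nilradical.2 (h _)) trivial

/-- A product of functionals, as a functional on the tensor power. -/
noncomputable def pair {k : ℕ} (φ : Fin k → (M →ₗ[R] R)) :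
    (⨂[R] _ : Fin k, M) →ₗ[R] R :=
  PiTensorProduct.lift ((MultilinearMap.mkPiAlgebra R (Fin k) R).compLinearMap φ)

lemma pair_tprod {k : ℕ} (φ : Fin k → (M →ₗ[R] R)) (x : Fin k → M) :
    pair φ (PiTensorProduct.tprod R x) = ∏ i, φ i (x i) := by
  simp [pair]

/-- If the tensor of a family lies in a sum of pieces killed by `A`, its coordinates multiply to 0. -/
lemma prod_eq_zero_of_mem {k : ℕ} {ι : Type*} (N : ι → Fin k → Submodule R M)
    (A : Fin k → (M →ₗ[R] M)) (hA : ∀ c, ∃ i, ∀ y ∈ N c i, A i y = 0) (x : Fin k → M)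
    (hx : PiTensorProduct.tprod R x ∈
      ⨆ c, LinearMap.range (PiTensorProduct.map (R := R) (fun i => (N c i).subtype)))
    (φ : Fin k → (M →ₗ[R] R)) : ∏ i, φ i (A i (x i)) = 0 := by
  have hle : (⨆ c, LinearMap.range (PiTensorProduct.map (R := R) (fun i => (N c i).subtype))) ≤
      LinearMap.ker ((pair φ).comp (PiTensorProduct.map A)) := by
    refine iSup_le fun c => ?_
    rw [LinearMap.range_le_ker_iff]
    ext y
    obtain ⟨i, hi⟩ := hA c
    simp only [LinearMap.compMultilinearMap_apply, LinearMap.comp_apply, PiTensorProduct.map_tprod,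
      pair_tprod, LinearMap.zero_apply]
    exact Finset.prod_eq_zero (Finset.mem_univ i) (by
      rw [Submodule.subtype_apply, hi _ (y i).2, map_zero])
  have := hle hx
  rwa [LinearMap.mem_ker, LinearMap.comp_apply, PiTensorProduct.map_tprod, pair_tprod] at this

lemma isNilpotent_of_mem {k : ℕ} {ι : Type*} (hk : 1 ≤ k) (N : ι → Fin k → Submodule R M)
    (p : M →ₗ[R] M) (hp : ∀ c, ∃ i, ∀ y ∈ N c i, p y = 0) (x : M)
    (hx : PiTensorProduct.tprod R (fun _ : Fin k => x) ∈
      ⨆ c, LinearMap.range (PiTensorProduct.map (R := R) (fun i => (N c i).subtype)))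
    (φ : M →ₗ[R] R) : IsNilpotent (φ (p x)) := by
  refine ⟨k, ?_⟩
  simpa using prod_eq_zero_of_mem N (fun _ => p) hp _ hx (fun _ => φ)

lemma tprod_mem_range {k : ℕ} (N : Fin k → Submodule R M) (x : Fin k → M) (hx : ∀ i, x i ∈ N i) :
    PiTensorProduct.tprod R x ∈
      LinearMap.range (PiTensorProduct.map (R := R) (fun i => (N i).subtype)) :=
  ⟨PiTensorProduct.tprod R (fun i => ⟨x i, hx i⟩), by simp [PiTensorProduct.map_tprod]⟩

section Proj

variable {Γ : Type w} [DecidableEq Γ] {G : Γ → Submodule R M}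

/-- The projection onto one summand of an internal decomposition. -/
noncomputable def proj (h : DirectSum.IsInternal G) (η : Γ) : M →ₗ[R] M :=
  (G η).subtype ∘ₗ DirectSum.component R Γ (fun γ => ↥(G γ)) η ∘ₗ
    (LinearEquiv.ofBijective (DirectSum.coeLinearMap G) h).symm.toLinearMap

lemma proj_mem (h : DirectSum.IsInternal G) (η : Γ) (x : M) : proj h η x ∈ G η :=
  (((DirectSum.component R Γ (fun γ => ↥(G γ)) η) _ : G η)).2

lemma proj_of_mem (h : DirectSum.IsInternal G) {η ξ : Γ} {x : M} (hx : x ∈ G ξ) :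
    proj h η x = if ξ = η then x else 0 := by
  have e : (LinearEquiv.ofBijective (DirectSum.coeLinearMap G) h).symm x =
      DirectSum.lof R Γ (fun γ => ↥(G γ)) ξ ⟨x, hx⟩ := by
    rw [LinearEquiv.symm_apply_eq]
    exact (DirectSum.coeLinearMap_lof (A := G) ξ ⟨x, hx⟩).symm
  simp only [proj, LinearMap.comp_apply, LinearEquiv.coe_coe, e, DirectSum.component.of]
  by_cases hξ : ξ = η
  · subst hξ; simp
  · simp [hξ]

lemma mem_of_forall_proj (h : DirectSum.IsInternal G) {S : Submodule R M} {x : M}
    (hx : ∀ η, proj h η x ∈ S) : x ∈ S := by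
  classical
  set y := (LinearEquiv.ofBijective (DirectSum.coeLinearMap G) h).symm x with hy
  have e : x = DirectSum.coeLinearMap G y :=
    ((LinearEquiv.ofBijective (DirectSum.coeLinearMap G) h).apply_symm_apply x).symm
  rw [e, DirectSum.coeLinearMap_eq_dfinsuppSum, DFinsupp.sum]
  exact Submodule.sum_mem _ fun η _ => hx η

end Proj

/-- Trace elements: if all triple coordinates vanish then so do the plain ones. -/
lemma dual_mul_eq_zero_of_prod [Module.Finite R M] [Module.Projective R M] (G : Submodule R M)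
    (p : M →ₗ[R] M) (hp : ∀ y, p y ∈ G) (x : M) (hx : p x = x) :
    ∀ (j : ℕ), (∀ (φ : M →ₗ[R] R) (ψ : Fin j → (M →ₗ[R] R)) (g : Fin j → M), (∀ i, g i ∈ G) →
      φ x * ∏ i, ψ i (g i) = 0) → x = 0 := by
  intro j
  induction j with
  | zero =>
    intro h
    exact eq_zero_of_forall_dual fun φ => by
      simpa using h φ Fin.elim0 Fin.elim0 (fun i => i.elim0)
  | succ j ih =>
    intro h
    obtain ⟨n, g, θ, hg⟩ := exists_dual_gens (R := R) (M := M)
    refine ih fun φ ψ g' hg' => ?_
    have e : φ x = ∑ i, θ i x * φ (p (g i)) := by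
      conv_lhs => rw [← hx, hg x]
      simp [map_sum, map_smul]
    rw [e, Finset.sum_mul]
    refine Finset.sum_eq_zero fun i _ => ?_
    have := h (θ i) (Fin.cons φ ψ) (Fin.cons (p (g i)) g') (Fin.cases (hp _) hg')
    rw [Fin.prod_univ_succ] at this
    simpa [Fin.cons_zero, Fin.cons_succ, mul_assoc] using this

end Groth.Agent.TensPow2
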